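import Cfsg.Agent.Lib.CA.EvenOrder
import Cfsg.Agent.Lib.Char.Burnside
import Cfsg.Agent.Lib.CharTools.Basic
import Cfsg.Agent.Lib.Char.CentralOver
import Cfsg.Agent.Lib.Blk83.ItoMichler
import Mathlib.GroupTheory.Transfer

/-!
# A group whose nonlinear degrees are primes is solvable

In a simple group each prime degree forces a self-centralizing Sylow subgroup of that prime order;
the exceptional characters at the largest degree contradict column orthogonality.
-/

set_option autoImplicit false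

open scoped ComplexConjugate commutatorElement

namespace CfsgLib.PrimeDeg

open Cfsg CfsgLib

universe u

variable {G : Type u} [Group G] [Finite G]

/-- In a nonabelian simple group only the identity is scalar in a nonprincipal character. -/
theorem eq_one_of_norm_eq [IsSimpleGroup G] (hna : Subgroup.center G = ⊥) {χ : IrrCharacter G}
    (hχ : χ ≠ Char.principalIrr) {g : G}
    (h : ‖(χ : G → ℂ) g‖ = (charDegree (χ : G → ℂ) : ℝ)) : g = 1 := by
  classical
  haveI := Fintype.ofFinite G
  obtain ⟨n, ρ, hρ, hchar⟩ := χ.2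
  have hn : (Module.finrank ℂ (Fin n → ℂ) : ℂ) = (charDegree (χ : G → ℂ) : ℂ) := by
    rw [← Blk83.one_eq χ, ← hchar, Representation.char_one]
  rw [← Nat.cast_injective (R := ℂ) hn, ← hchar] at h
  obtain ⟨ω, hω⟩ := Char.eq_smul_one_of_norm_character_eq ρ g h
  have hker : (MonoidHom.ker ρ).Normal := MonoidHom.normal_ker ρ
  rcases hker.eq_bot_or_eq_top with hk | hk
  · have hgc : g ∈ Subgroup.center G := by
      rw [Subgroup.mem_center_iff]
      intro x
      have hc : ρ (g * x) = ρ (x * g) := by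
        rw [map_mul, map_mul, hω, smul_mul_assoc, one_mul, mul_smul_comm, mul_one]
      exact ((MonoidHom.ker_eq_bot_iff _).1 hk hc).symm
    rwa [hna, Subgroup.mem_bot] at hgc
  · refine absurd (Subtype.ext (funext fun x => ?_)) hχ
    have hx : ∀ x, ρ x = 1 := fun x => MonoidHom.mem_ker.1 (hk ▸ Subgroup.mem_top x)
    have hn1 : Module.finrank ℂ (Fin n → ℂ) = 1 := CharKernel.finrank_eq_one_of_trivial ρ hx
    rw [← hchar, Char.principalIrr_apply]
    simp only [Representation.character, hx x, LinearMap.trace_one, hn1, Nat.cast_one]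

variable [IsSimpleGroup G] (hna : Subgroup.center G = ⊥) {χ : IrrCharacter G} {p : ℕ}
  [Fact p.Prime] (hχ : χ ≠ Char.principalIrr) (hdeg : charDegree (χ : G → ℂ) = p)

include hna hχ hdeg in
/-- A Sylow subgroup for a prime degree is abelian. -/
theorem sylow_comm (P : Sylow p G) {a b : G} (ha : a ∈ P) (hb : b ∈ P) : a * b = b * a := by
  classical
  haveI := Fintype.ofFinite G
  haveI := Fintype.ofFinite (P : Subgroup G)
  obtain ⟨m, hm⟩ := Char.IsCharacter.exists_nat_combination
    (Char.IsCharacter.restrict (Char.IsIrrCharacter.isCharacter χ.2) (P : Subgroup G))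
  have h1 : (p : ℂ) = ∑ ψ : IrrCharacter (P : Subgroup G),
      ((m ψ * charDegree (ψ : ↥(P : Subgroup G) → ℂ) : ℕ) : ℂ) := by
    have h := congrFun hm 1
    simp only [Finset.sum_apply, Pi.smul_apply, smul_eq_mul, OneMemClass.coe_one] at h
    refine (congrArg Nat.cast hdeg).symm.trans ?_
    rw [← Blk83.one_eq χ, h]
    exact Finset.sum_congr rfl fun ψ _ => by rw [Nat.cast_mul, Blk83.one_eq ψ]
  rw [← Nat.cast_sum, Nat.cast_inj] at h1
  have hlin : ∀ ψ : IrrCharacter (P : Subgroup G), m ψ ≠ 0 →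
      charDegree (ψ : ↥(P : Subgroup G) → ℂ) = 1 := by
    intro ψ hψ
    by_contra hne
    obtain ⟨k, hk⟩ := IsPGroup.iff_card.1 P.2
    obtain ⟨i, -, hi⟩ := (Nat.dvd_prime_pow (Fact.out : p.Prime)).1 (hk ▸ Blk83.deg_dvd ψ)
    have hi0 : i ≠ 0 := fun h => hne (by rw [hi, h, pow_zero])
    have hle : m ψ * charDegree (ψ : ↥(P : Subgroup G) → ℂ) ≤ p :=
      (Finset.single_le_sum (f := fun ψ : IrrCharacter (P : Subgroup G) =>
        m ψ * charDegree (ψ : ↥(P : Subgroup G) → ℂ)) (fun _ _ => Nat.zero_le _)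
          (Finset.mem_univ ψ)).trans_eq h1.symm
    have hp2 : p ≤ charDegree (ψ : ↥(P : Subgroup G) → ℂ) := by
      rw [hi]; exact Nat.le_self_pow hi0 p
    have hpos := Nat.pos_of_ne_zero hψ
    have hmd : m ψ * charDegree (ψ : ↥(P : Subgroup G) → ℂ) = p := by
      refine le_antisymm hle (hp2.trans (Nat.le_mul_of_pos_left _ hpos))
    have hrest : ∀ ψ' : IrrCharacter (P : Subgroup G), ψ' ≠ ψ → m ψ' = 0 := by
      intro ψ' hne'
      rw [← Finset.add_sum_erase _ _ (Finset.mem_univ ψ), hmd] at h1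
      have h2 : ∑ x ∈ Finset.univ.erase ψ, m x * charDegree (x : ↥(P : Subgroup G) → ℂ) = 0 := by
        omega
      have h3 := Finset.sum_eq_zero_iff.1 h2 ψ' (Finset.mem_erase.2 ⟨hne', Finset.mem_univ _⟩)
      exact (mul_eq_zero.1 h3).resolve_right (Blk83.deg_pos ψ').ne'
    have hm1 : m ψ = 1 := by
      have h4 : m ψ * p ≤ 1 * p := by
        rw [one_mul]; exact (Nat.mul_le_mul_left _ hp2).trans hle
      have := Nat.le_of_mul_le_mul_right h4 (Fact.out : p.Prime).pos
      omega
    have hres : ∀ y : (P : Subgroup G), (χ : G → ℂ) y = (ψ : ↥(P : Subgroup G) → ℂ) y := by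
      intro y
      have h := congrFun hm y
      simp only [Finset.sum_apply, Pi.smul_apply, smul_eq_mul] at h
      rw [h, Finset.sum_eq_single ψ (fun x _ hx => by rw [hrest x hx, Nat.cast_zero, zero_mul])
        (by simp), hm1, Nat.cast_one, one_mul]
    haveI : Nontrivial (P : Subgroup G) := by
      rw [← Finite.one_lt_card_iff_nontrivial, hk]
      refine Nat.one_lt_pow ?_ (Fact.out : p.Prime).one_lt
      intro h0
      have := Blk83.deg_dvd ψ
      rw [hk, h0, pow_zero, Nat.dvd_one] at this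
      exact hne this
    haveI := P.2.center_nontrivial
    obtain ⟨z, hz⟩ := exists_ne (1 : Subgroup.center (P : Subgroup G))
    refine hz (Subtype.ext (Subtype.ext (eq_one_of_norm_eq hna hχ ?_)))
    rw [hres, CharTools.norm_apply_center ψ z.2]
    have hd : charDegree (χ : G → ℂ) = charDegree (ψ : ↥(P : Subgroup G) → ℂ) :=
      hdeg.trans (hmd.symm.trans (by rw [hm1, one_mul]))
    rw [hd]
  have hc : (χ : G → ℂ) ⁅a, b⁆ = (charDegree (χ : G → ℂ) : ℂ) := by
    have h := congrFun hm (⁅(⟨a, ha⟩ : (P : Subgroup G)), ⟨b, hb⟩⁆)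
    simp only [Finset.sum_apply, Pi.smul_apply, smul_eq_mul] at h
    refine h.trans ?_
    refine Eq.trans ?_ ((congrArg Nat.cast h1).symm.trans (congrArg Nat.cast hdeg).symm)
    rw [Nat.cast_sum]
    refine Finset.sum_congr rfl fun ψ _ => ?_
    rw [Nat.cast_mul]
    by_cases hψ : m ψ = 0
    · rw [hψ, Nat.cast_zero, zero_mul, zero_mul]
    · obtain ⟨f, hf⟩ := Char.IsCharacter.exists_linear (Char.IsIrrCharacter.isCharacter ψ.2)
        (by rw [Blk83.one_eq ψ, hlin ψ hψ, Nat.cast_one])
      rw [hlin ψ hψ, Nat.cast_one, hf, map_commutatorElement,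
        commutatorElement_eq_one_iff_mul_comm.2 (mul_comm _ _), Units.val_one]
  exact commutatorElement_eq_one_iff_mul_comm.1
    (eq_one_of_norm_eq hna hχ (by rw [hc, Complex.norm_natCast]))

include hna hχ hdeg in
/-- Elements centralizing a Sylow subgroup vanish. -/
theorem apply_eq_zero (P : Sylow p G) {g : G} (hg : g ≠ 1)
    (hPg : (P : Subgroup G) ≤ Subgroup.centralizer ({g} : Set G)) : (χ : G → ℂ) g = 0 := by
  classical
  haveI := Fintype.ofFinite G
  obtain ⟨n, ρ, hρ, hchar⟩ := χ.2
  have hn : Module.finrank ℂ (Fin n → ℂ) = p := by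
    refine Nat.cast_injective (R := ℂ) ?_
    rw [← hdeg, ← Blk83.one_eq χ, ← hchar, Representation.char_one]
  have hcop : Nat.Coprime (Module.finrank ℂ (Fin n → ℂ))
      (Subgroup.centralizer ({g} : Set G)).index := by
    rw [hn, (Fact.out : p.Prime).coprime_iff_not_dvd]
    exact fun h => P.not_dvd_index (h.trans (Subgroup.index_dvd_of_le hPg))
  rw [← hchar]
  refine (Char.char_eq_zero_or_norm_eq_finrank ρ g hcop).resolve_right fun h => hg ?_
  rw [hchar, hn, ← hdeg] at h
  exact eq_one_of_norm_eq hna hχ h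

include hna hχ hdeg in
/-- A Sylow subgroup for a prime degree has that order and is self-centralizing. -/
theorem exists_selfCent : ∃ x : G, orderOf x = p ∧ ¬ p ^ 2 ∣ Nat.card G ∧
    CA.SelfCent (Subgroup.zpowers x) := by
  classical
  haveI := Fintype.ofFinite G
  have hp : p.Prime := Fact.out
  obtain ⟨P⟩ : Nonempty (Sylow p G) := inferInstance
  haveI := Fintype.ofFinite (P : Subgroup G)
  have hP : Nat.card (P : Subgroup G) = p := by
    have hvan : ∀ y : (P : Subgroup G), y ≠ 1 → (χ : G → ℂ) y = 0 := fun y hy =>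
      apply_eq_zero hna hχ hdeg P (fun h => hy (Subtype.ext h)) fun z hz =>
        Subgroup.mem_centralizer_singleton_iff.2 (sylow_comm hna hχ hdeg P hz y.2)
    obtain ⟨k, hk⟩ := Char.IsCharacter.exists_nat_classInner
      (Char.IsCharacter.restrict (Char.IsIrrCharacter.isCharacter χ.2) (P : Subgroup G))
      (Char.principalIrr (G := (P : Subgroup G))).2
    simp only [classInner, Char.principalIrr_apply, map_one, mul_one] at hk
    rw [Finset.sum_eq_single (1 : (P : Subgroup G)) (fun y _ hy => hvan y hy) (by simp),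
      OneMemClass.coe_one, Blk83.one_eq χ, hdeg, inv_mul_eq_iff_eq_mul₀
        (Nat.cast_ne_zero.2 Nat.card_pos.ne'), ← Nat.cast_mul, Nat.cast_inj] at hk
    rcases (Nat.dvd_prime hp).1 (Dvd.intro k hk.symm) with h | h
    · exfalso
      have hdvd : p ∣ Nat.card G := hdeg ▸ Blk83.deg_dvd χ
      have h2 := Subgroup.card_mul_index (P : Subgroup G)
      rw [h, one_mul] at h2
      exact P.not_dvd_index (h2 ▸ hdvd)
    · exact h
  haveI : Nontrivial (P : Subgroup G) := Finite.one_lt_card_iff_nontrivial.1 (by rw [hP]; exact hp.one_lt)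
  obtain ⟨x, hx⟩ := exists_ne (1 : (P : Subgroup G))
  have hox : orderOf (x : G) = p := by
    rw [Subgroup.orderOf_coe]
    rcases (Nat.dvd_prime hp).1 (hP ▸ orderOf_dvd_natCard x) with h | h
    · exact absurd (orderOf_eq_one_iff.1 h) hx
    · exact h
  have hzP : Subgroup.zpowers (x : G) = P := Subgroup.eq_of_le_of_card_ge
    (Subgroup.zpowers_le.2 x.2) (by rw [hP, Nat.card_zpowers, hox])
  refine ⟨x, hox, fun hd => ?_, ?_⟩
  · have h2 := Subgroup.card_mul_index (P : Subgroup G)
    rw [hP] at h2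
    refine P.not_dvd_index ?_
    rw [← h2, sq] at hd
    exact Nat.dvd_of_mul_dvd_mul_left hp.pos hd
  have hx1 : (x : G) ≠ 1 := fun h => hx (Subtype.ext h)
  -- no `p`-regular element other than `1` centralizes `x`
  have hreg : ∀ z : G, z * (x : G) = x * z → ¬ p ∣ orderOf z → z = 1 := by
    intro z hzx hz
    set Z := Subgroup.zpowers z with hZ
    set w := (x : G) * z with hw
    set K := Subgroup.zpowers w with hK
    haveI := Fintype.ofFinite K
    haveI := Fintype.ofFinite Z
    have hcomm : Commute (x : G) z := hzx.symm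
    have how : orderOf w = p * orderOf z := by
      rw [hw, hcomm.orderOf_mul_eq_mul_orderOf_of_coprime, hox]
      rw [hox]; exact hp.coprime_iff_not_dvd.2 hz
    have hzK : z ∈ K := by
      obtain ⟨c, hc⟩ := exists_pow_eq_self_of_coprime
        (show Nat.Coprime p (orderOf z) from hp.coprime_iff_not_dvd.2 hz)
      refine Subgroup.mem_zpowers_iff.2 ⟨((p * c : ℕ) : ℤ), ?_⟩
      rw [zpow_natCast, pow_mul, hw, hcomm.mul_pow, show (x : G) ^ p = 1 by simpa only [hox] using pow_orderOf_eq_one (x : G),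
        one_mul]
      exact hc
    have hZK : Z ≤ K := Subgroup.zpowers_le.2 hzK
    have hcardK : Nat.card K = p * Nat.card Z := by
      rw [Nat.card_zpowers, Nat.card_zpowers, how]
    have hvan : ∀ y : K, (y : G) ∉ Z → (χ : G → ℂ) y = 0 := by
      intro y hy
      refine apply_eq_zero hna hχ hdeg P (fun h => hy (h ▸ one_mem Z)) ?_
      rw [← hzP, Subgroup.zpowers_le, Subgroup.mem_centralizer_singleton_iff]
      obtain ⟨j, hj⟩ := Subgroup.mem_zpowers_iff.1 y.2
      rw [← hj, hw]
      exact (((Commute.refl (x : G)).mul_right hcomm).zpow_right j).eq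
    obtain ⟨lam₀, hlam₀, hne⟩ := Clifford.exists_constituent
      (Char.IsCharacter.restrict (Char.IsIrrCharacter.isCharacter χ.2) K)
      (show (χ : G → ℂ) ((1 : K) : G) ≠ 0 by
        rw [OneMemClass.coe_one]; exact Char.IsIrrCharacter.apply_one_ne_zero χ.2)
    have hlamlin : lam₀ 1 = 1 := (CharOver.abelian_irr (fun a b => Subtype.ext (by
      obtain ⟨i, hi⟩ := Subgroup.mem_zpowers_iff.1 a.2
      obtain ⟨j, hj⟩ := Subgroup.mem_zpowers_iff.1 b.2
      rw [Subgroup.coe_mul, Subgroup.coe_mul, ← hi, ← hj, ← zpow_add, ← zpow_add, add_comm])) hlam₀).1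
    obtain ⟨fl, hfl⟩ := Char.IsCharacter.exists_linear (Char.IsIrrCharacter.isCharacter hlam₀) hlamlin
    set μ : IrrCharacter Z := ⟨_, Char.isIrrCharacter_linear (fl.comp (Subgroup.inclusion hZK))⟩
      with hμ
    obtain ⟨k, hk⟩ := Char.IsCharacter.exists_nat_classInner
      (Char.IsCharacter.restrict (Char.IsIrrCharacter.isCharacter χ.2) K) hlam₀
    obtain ⟨j, hj⟩ := Char.IsCharacter.exists_nat_classInner
      (Char.IsCharacter.restrict (Char.IsIrrCharacter.isCharacter χ.2) Z) μ.2
    have hjk : j = p * k := by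
      have hsum : ∑ y : K, (χ : G → ℂ) y * conj (lam₀ y) =
          ∑ y : Z, (χ : G → ℂ) y * conj ((μ : Z → ℂ) y) := by
        refine (Finset.sum_of_injOn (fun y : Z => Subgroup.inclusion hZK y) ?_ (by simp) ?_ ?_).symm
        · exact fun a _ b _ h => Subgroup.inclusion_injective hZK h
        · intro y _ hy
          rw [hvan y fun h => hy ⟨⟨y, h⟩, Finset.mem_coe.2 (Finset.mem_univ _), rfl⟩, zero_mul]
        · intro y _
          rw [hfl]
          rfl
      refine Nat.cast_injective (R := ℂ) ?_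
      rw [Nat.cast_mul, ← hk, ← hj]
      simp only [classInner]
      rw [hsum, hcardK, Nat.cast_mul, mul_inv, ← mul_assoc, ← mul_assoc,
        mul_inv_cancel₀ (Nat.cast_ne_zero.2 hp.ne_zero), one_mul]
    have hk0 : k ≠ 0 := fun h => hne (by rw [hk, h, Nat.cast_zero])
    obtain ⟨m, hm⟩ := Char.IsCharacter.exists_nat_combination
      (Char.IsCharacter.restrict (Char.IsIrrCharacter.isCharacter χ.2) Z)
    have hmμ : m μ = j := by
      refine Nat.cast_injective (R := ℂ) ?_
      rw [← hj, hm, Char.classInner_sum_smul_irr (fun γ => (m γ : ℂ)) μ]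
    have hdegs : p = ∑ γ : IrrCharacter Z, m γ * charDegree (γ : Z → ℂ) := by
      refine Nat.cast_injective (R := ℂ) ?_
      have h := congrFun hm 1
      simp only [Finset.sum_apply, Pi.smul_apply, smul_eq_mul, OneMemClass.coe_one] at h
      rw [← hdeg, ← Blk83.one_eq χ, h, Nat.cast_sum]
      exact Finset.sum_congr rfl fun γ _ => by rw [Nat.cast_mul, Blk83.one_eq γ]
    rw [← Finset.add_sum_erase _ _ (Finset.mem_univ μ), hmμ, hjk] at hdegs
    have hμ1 : charDegree (μ : Z → ℂ) = 1 := by simp [hμ, charDegree]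
    rw [hμ1, mul_one] at hdegs
    have hge : p ≤ p * k := Nat.le_mul_of_pos_right _ (Nat.pos_of_ne_zero hk0)
    have hzero : ∀ γ, γ ≠ μ → m γ = 0 := fun γ hγ => by
      have h2 : ∑ x ∈ Finset.univ.erase μ, m x * charDegree (x : Z → ℂ) = 0 := by omega
      exact (mul_eq_zero.1 (Finset.sum_eq_zero_iff.1 h2 γ
        (Finset.mem_erase.2 ⟨hγ, Finset.mem_univ _⟩))).resolve_right (Blk83.deg_pos γ).ne'
    have hk1 : p * k = p := by omega
    refine eq_one_of_norm_eq hna hχ ?_
    have h := congrFun hm ⟨z, Subgroup.mem_zpowers z⟩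
    simp only [Finset.sum_apply, Pi.smul_apply, smul_eq_mul] at h
    rw [h, Finset.sum_eq_single μ (fun γ _ hγ => by rw [hzero γ hγ, Nat.cast_zero, zero_mul])
      (by simp), hmμ, hjk, hk1, hdeg, norm_mul, Complex.norm_natCast]
    have hone : ‖((fl (⟨z, hzK⟩ : K) : ℂˣ) : ℂ)‖ = 1 := by
      refine Complex.norm_eq_one_of_pow_eq_one (n := Nat.card K) ?_ Nat.card_pos.ne'
      rw [← Units.val_pow_eq_pow_val, ← map_pow, pow_card_eq_one', map_one, Units.val_one]
    show (p : ℝ) * ‖((fl (⟨z, hzK⟩ : K) : ℂˣ) : ℂ)‖ = p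
    rw [hone, mul_one]
  have hcent : Subgroup.centralizer ({(x : G)} : Set G) = P := by
    refine P.3 (fun y => ?_) ?_
    · obtain ⟨k, n', hpn, hkn⟩ := Nat.exists_eq_pow_mul_and_not_dvd
        (orderOf_pos (y : G)).ne' p hp.ne_one
      refine ⟨k, Subtype.ext ?_⟩
      rw [SubgroupClass.coe_pow, OneMemClass.coe_one]
      refine hreg _ ?_ ?_
      · exact (Commute.pow_left (Subgroup.mem_centralizer_singleton_iff.1 y.2) _).eq
      · rw [orderOf_pow, hkn, Nat.gcd_eq_right (Dvd.intro _ rfl),
          Nat.mul_div_cancel_left _ (pow_pos hp.pos k)]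
        exact hpn
    · intro y hy
      exact Subgroup.mem_centralizer_singleton_iff.2 (sylow_comm hna hχ hdeg P hy x.2)
  refine ⟨Subgroup.zpowers_ne_bot.2 hx1, fun y hy hy1 => ?_⟩
  rw [hzP]
  refine le_antisymm (fun g hg => ?_) fun g hg =>
    Subgroup.mem_centralizer_singleton_iff.2 (sylow_comm hna hχ hdeg P hg (hzP.le hy))
  rw [← hcent, Subgroup.mem_centralizer_singleton_iff]
  have hxy : Subgroup.zpowers y = Subgroup.zpowers (x : G) := by
    refine Subgroup.eq_of_le_of_card_ge (Subgroup.zpowers_le.2 hy) ?_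
    have h1 : orderOf y = p := by
      rcases (Nat.dvd_prime hp).1 (hox ▸ orderOf_dvd_of_mem_zpowers hy) with h | h
      · exact absurd (orderOf_eq_one_iff.1 h) hy1
      · exact h
    rw [Nat.card_zpowers, Nat.card_zpowers, h1, hox]
  obtain ⟨i, hi⟩ := Subgroup.mem_zpowers_iff.1
    (show (x : G) ∈ Subgroup.zpowers y by rw [hxy]; exact Subgroup.mem_zpowers _)
  rw [← hi]
  exact ((show Commute g y from Subgroup.mem_centralizer_singleton_iff.1 hg).zpow_right i).eq

end CfsgLib.PrimeDeg
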