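import Cfsg.Agent.Lib.PrimeDegrees.Basic

/-!
# The contradiction at the largest prime degree
-/

set_option autoImplicit false

open scoped ComplexConjugate

namespace CfsgLib.PrimeDeg

open Cfsg CfsgLib

universe u

variable {G : Type u} [Group G] [Finite G]

/-- No simple group with trivial centre has only primes as nonlinear degrees. -/
theorem false_of_simple [IsSimpleGroup G] (hna : Subgroup.center G = ⊥)
    (h : ∀ χ : IrrCharacter G, charDegree (χ : G → ℂ) ≠ 1 →
      (charDegree (χ : G → ℂ)).Prime) : False := by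
  classical
  haveI := Fintype.ofFinite G
  have hnt : Nontrivial G := IsSimpleGroup.toNontrivial
  have hncomm : ¬ ∀ a b : G, a * b = b * a := fun hc => by
    have : Subgroup.center G = ⊤ :=
      eq_top_iff.2 fun a _ => Subgroup.mem_center_iff.2 fun b => hc b a
    rw [hna] at this
    exact bot_ne_top this
  have hlin : ∀ χ : IrrCharacter G, charDegree (χ : G → ℂ) = 1 → χ = Char.principalIrr := by
    intro χ h1
    obtain ⟨f, hf⟩ := Char.IsCharacter.exists_linear (Char.IsIrrCharacter.isCharacter χ.2)
      (by rw [Blk83.one_eq χ, h1, Nat.cast_one])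
    rcases (MonoidHom.normal_ker f).eq_bot_or_eq_top with hk | hk
    · exact absurd (fun a b => (MonoidHom.ker_eq_bot_iff f).1 hk
        (by rw [map_mul, map_mul, mul_comm])) hncomm
    · refine Subtype.ext (funext fun g => ?_)
      rw [hf, Char.principalIrr_apply, show f g = 1 from MonoidHom.mem_ker.1 (hk ▸ trivial),
        Units.val_one]
  have hne1 : ∀ χ : IrrCharacter G, χ ≠ Char.principalIrr → (charDegree (χ : G → ℂ)).Prime :=
    fun χ hχ => h χ fun h1 => hχ (hlin χ h1)
  -- no degree two
  have hne2 : ∀ χ : IrrCharacter G, charDegree (χ : G → ℂ) ≠ 2 := by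
    intro χ h2
    haveI : Fact (2 : ℕ).Prime := ⟨Nat.prime_two⟩
    have hχ : χ ≠ Char.principalIrr := fun he => by
      rw [he] at h2
      simp [charDegree, Char.principalIrr_apply] at h2
    obtain ⟨x, hx, hsq, hA⟩ := exists_selfCent hna hχ h2
    obtain ⟨P, hP⟩ := (IsPGroup.of_card (p := 2) (G := Subgroup.zpowers x) (n := 1)
      (by rw [Nat.card_zpowers, hx, pow_one])).exists_le_sylow
    obtain ⟨k, hk⟩ := IsPGroup.iff_card.1 P.2
    have hk1 : k ≤ 1 := by
      by_contra hcon
      exact hsq ((pow_dvd_pow 2 (show 2 ≤ k by omega)).trans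
        (hk ▸ Subgroup.card_subgroup_dvd_card _))
    have hPx : (P : Subgroup G) = Subgroup.zpowers x := by
      refine (Subgroup.eq_of_le_of_card_ge hP ?_).symm
      rw [hk, Nat.card_zpowers, hx]
      exact (Nat.pow_le_pow_right two_pos hk1).trans_eq (pow_one 2)
    have hx1 : x ≠ 1 := fun he => by rw [he, orderOf_one] at hx; omega
    have hmem : ∀ y ∈ Subgroup.zpowers x, y = 1 ∨ y = x := by
      intro y hy
      obtain ⟨i, rfl⟩ := Subgroup.mem_zpowers_iff.1 hy
      rw [← zpow_mod_orderOf, hx]
      rcases Int.emod_two_eq_zero_or_one i with hi | hi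
      · exact Or.inl (by rw [show ((2 : ℕ) : ℤ) = 2 from rfl, hi, zpow_zero])
      · exact Or.inr (by rw [show ((2 : ℕ) : ℤ) = 2 from rfl, hi, zpow_one])
    have hNC : Subgroup.normalizer ((P : Subgroup G) : Set G) ≤
        Subgroup.centralizer ((P : Subgroup G) : Set G) := by
      intro g hg
      rw [Subgroup.mem_centralizer_iff]
      intro y hy
      have hy' : y ∈ Subgroup.zpowers x := hPx ▸ hy
      rcases hmem y hy' with rfl | rfl
      · rw [one_mul, mul_one]
      · have hc := (Subgroup.mem_normalizer_iff.1 hg y).1 hy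
        rw [hPx] at hc
        rcases hmem _ hc with h0 | h0
        · exact absurd (conj_eq_one_iff.1 h0) hx1
        · exact (mul_inv_eq_iff_eq_mul.1 h0).symm
    have hcompl := MonoidHom.ker_transferSylow_isComplement' P hNC
    rcases (MonoidHom.normal_ker (MonoidHom.transferSylow P hNC)).eq_bot_or_eq_top with hb | ht
    · rw [hb] at hcompl
      have htop : (P : Subgroup G) = ⊤ := Subgroup.isComplement'_bot_left.1 hcompl
      refine hncomm fun a b => hA.comm ?_ ?_ <;> rw [← hPx, htop] <;> trivial
    · rw [ht] at hcompl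
      have hbot : (P : Subgroup G) = ⊥ := Subgroup.isComplement'_top_left.1 hcompl
      rw [hbot] at hPx
      exact hx1 (Subgroup.zpowers_eq_bot.1 hPx.symm)
  -- the largest degree
  obtain ⟨χ₀, -, hmax⟩ := Finset.exists_max_image (Finset.univ : Finset (IrrCharacter G))
    (fun χ => charDegree (χ : G → ℂ)) ⟨Char.principalIrr, Finset.mem_univ _⟩
  have hp : (charDegree (χ₀ : G → ℂ)).Prime := by
    refine h χ₀ fun h1 => hncomm (Blk83.commute_of_forall_linear fun χ => ?_)
    have := hmax χ (Finset.mem_univ χ)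
    have := Blk83.deg_pos χ
    omega
  set p := charDegree (χ₀ : G → ℂ) with hpdef
  haveI : Fact p.Prime := ⟨hp⟩
  have hp3 : 3 ≤ p := by
    have := hp.two_le
    have := hne2 χ₀
    omega
  obtain ⟨x, hx, -, hA⟩ := exists_selfCent (p := p) hna (χ := χ₀)
    (fun he => hp.ne_one (by rw [hpdef, he]; simp [charDegree, Char.principalIrr_apply])) rfl
  set A := Subgroup.zpowers x with hAdef
  haveI := Fintype.ofFinite A
  haveI : Fintype (CA.Orb A) := Fintype.ofFinite _
  obtain ⟨ε, μ, hε, hinj, hdiff⟩ := CA.Even.exists_exceptional hA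
  obtain ⟨l₀⟩ := CA.nonempty_np hA (A := A)
  have hx1 : x ≠ 1 := fun he => hp.ne_one (by rw [← hx, he, orderOf_one])
  set b : A := ⟨x, Subgroup.mem_zpowers x⟩ with hbdef
  have hb1 : b ≠ 1 := fun he => hx1 (congrArg Subtype.val he)
  have hcardA : Nat.card A = p := by rw [hAdef, Nat.card_zpowers, hx]
  have hcardNP : Fintype.card (CA.NP A) = p - 1 := by
    rw [Fintype.card_subtype_compl, Fintype.card_subtype_eq, ← Nat.card_eq_fintype_card,
      CA.card_irrA hA, hcardA]
  -- values on `A`
  have hexp : ∀ (φ : IrrCharacter G) (y : A), (φ : G → ℂ) y =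
      classInner (fun a : A => (φ : G → ℂ) a) (Char.principalIrr : IrrCharacter A) +
        ∑ l : CA.NP A, classInner (fun a : A => (φ : G → ℂ) a) (l.1 : A → ℂ) * (l.1 : A → ℂ) y := by
    intro φ y
    have h0 := congrFun (Char.IsCharacter.eq_sum_classInner
      (Char.IsCharacter.restrict (Char.IsIrrCharacter.isCharacter φ.2) A)) y
    simp only [Finset.sum_apply, Pi.smul_apply, smul_eq_mul] at h0
    rw [h0, ← Finset.add_sum_erase _ _ (Finset.mem_univ (Char.principalIrr : IrrCharacter A)),
      Char.principalIrr_apply, mul_one]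
    congr 1
    exact Finset.sum_subtype _ (by simp) _
  have hcoef : ∀ (φ : IrrCharacter G) (l l' : CA.NP A),
      classInner (fun a : A => (φ : G → ℂ) a) (l.1 : A → ℂ) -
        classInner (fun a : A => (φ : G → ℂ) a) (l'.1 : A → ℂ) =
      ε * ((if μ (CA.orb A l) = φ then 1 else 0) - if μ (CA.orb A l') = φ then 1 else 0) := by
    intro φ l l'
    have h0 := congrArg (fun f => conj (classInner f (φ : G → ℂ))) (hdiff l l')
    simp only [Char.classInner_sub_left, Char.classInner_smul_left, Char.classInner_irrCharacter,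
      Char.classInner_indFun A _ _ (Char.IsIrrCharacter.isClassFunction φ.2), map_sub, map_mul,
      Char.classInner_conj_symm, apply_ite conj, map_one, map_zero] at h0
    rw [h0]
    rcases hε with rfl | rfl <;> simp
  -- outside the exceptional family the values vanish
  have hvan : ∀ φ : IrrCharacter G, φ ≠ Char.principalIrr → (∀ o, μ o ≠ φ) →
      (φ : G → ℂ) x = 0 := by
    intro φ hφ hnot
    obtain ⟨k, hk⟩ := Char.IsCharacter.exists_nat_classInner
      (Char.IsCharacter.restrict (Char.IsIrrCharacter.isCharacter φ.2) A) l₀.1.2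
    obtain ⟨a, ha⟩ := Char.IsCharacter.exists_nat_classInner
      (Char.IsCharacter.restrict (Char.IsIrrCharacter.isCharacter φ.2) A)
      (Char.principalIrr (G := A)).2
    have hall : ∀ l : CA.NP A, classInner (fun a : A => (φ : G → ℂ) a) (l.1 : A → ℂ) = (k : ℂ) := by
      intro l
      have h0 := hcoef φ l l₀
      rw [if_neg (hnot _), if_neg (hnot _), sub_zero, mul_zero, sub_eq_zero] at h0
      exact h0.trans hk
    have hxb : (φ : G → ℂ) x = (a : ℂ) - k := by
      rw [show (φ : G → ℂ) x = (φ : G → ℂ) (b : G) from rfl, hexp, ha]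
      simp only [hall]
      rw [← Finset.mul_sum, CA.sum_np_apply hA hb1]
      ring
    have hd : charDegree (φ : G → ℂ) = a + k * (p - 1) := by
      have h0 := hexp φ 1
      simp only [hall, CA.irr_apply_one hA, mul_one, Finset.sum_const, Finset.card_univ, hcardNP,
        nsmul_eq_mul, ha, OneMemClass.coe_one] at h0
      rw [Blk83.one_eq φ] at h0
      exact_mod_cast h0.trans (by push_cast; ring :
        (a : ℂ) + ((p - 1 : ℕ) : ℂ) * k = ((a + k * (p - 1) : ℕ) : ℂ))
    have hk0 : k ≠ 0 := by
      rintro rfl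
      refine hx1 (eq_one_of_norm_eq hna hφ ?_)
      rw [hxb, hd]
      simp
    have hle := hmax φ (Finset.mem_univ φ)
    have hk1 : p - 1 ≤ k * (p - 1) := Nat.le_mul_of_pos_left _ (Nat.pos_of_ne_zero hk0)
    have hprime := hne1 φ hφ
    have hodd := hp.eq_two_or_odd.resolve_left (by omega)
    have hdp : charDegree (φ : G → ℂ) = p := by
      by_contra hne
      have h3 : charDegree (φ : G → ℂ) = p - 1 := by omega
      rcases hprime.eq_two_or_odd with h4 | h4
      · exact hne2 φ h4
      · omega
    have hk2 : k = 1 := by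
      by_contra hne
      have : 2 * (p - 1) ≤ k * (p - 1) := Nat.mul_le_mul_right _ (by omega)
      omega
    have ha1 : a = 1 := by
      rw [hk2, one_mul] at hd
      omega
    rw [hxb, hk2, ha1, sub_self]
  -- column orthogonality
  have hcol := Char.sum_mul_conj x (1 : G)
  rw [if_neg fun hc => hx1 (isConj_one_left.1 hc)] at hcol
  by_cases hprin : ∃ o, μ o = Char.principalIrr
  · obtain ⟨o, ho⟩ := hprin
    rw [Finset.sum_eq_single (Char.principalIrr : IrrCharacter G) ?_ (by simp),
      Char.principalIrr_apply, Char.principalIrr_apply, map_one, mul_one] at hcol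
    · exact one_ne_zero hcol
    intro φ _ hφ
    rw [hvan φ hφ, zero_mul]
    intro o' ho'
    refine hne1 φ hφ |>.ne_one ?_
    have h0 := congrFun (hdiff (Quotient.out o') (Quotient.out o)) 1
    rw [show CA.orb A (Quotient.out o') = o' from Quotient.out_eq o',
      show CA.orb A (Quotient.out o) = o from Quotient.out_eq o] at h0
    simp only [Pi.sub_apply, Pi.smul_apply, smul_eq_mul, Char.indFun_apply_one, CA.irr_apply_one hA,
      sub_self, ho, ho', Char.principalIrr_apply] at h0
    have h1 : (φ : G → ℂ) 1 = 1 := by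
      rcases hε with rfl | rfl <;> first | linear_combination -h0 | linear_combination h0
    rw [Blk83.one_eq φ] at h1
    exact_mod_cast h1
  push Not at hprin
  set T : Finset (IrrCharacter G) := Finset.univ.image μ with hT
  have hTp : (Char.principalIrr : IrrCharacter G) ∉ T := fun hc => by
    obtain ⟨o, -, ho⟩ := Finset.mem_image.1 hc
    exact hprin o ho
  set d := charDegree (μ (CA.orb A l₀) : G → ℂ) with hd
  have hTdeg : ∀ φ ∈ T, (φ : G → ℂ) 1 = (d : ℂ) := by
    intro φ hφ
    obtain ⟨o, -, rfl⟩ := Finset.mem_image.1 hφ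
    have h0 := congrFun (hdiff (Quotient.out o) l₀) 1
    rw [show CA.orb A (Quotient.out o) = o from Quotient.out_eq o] at h0
    simp only [Pi.sub_apply, Pi.smul_apply, smul_eq_mul, Char.indFun_apply_one, CA.irr_apply_one hA,
      sub_self] at h0
    rw [hd, ← Blk83.one_eq]
    rcases hε with rfl | rfl <;> first | linear_combination -h0 | linear_combination h0
  choose K hK using fun (φ : IrrCharacter G) (l : IrrCharacter A) =>
    Char.IsCharacter.exists_nat_classInner
      (Char.IsCharacter.restrict (Char.IsIrrCharacter.isCharacter φ.2) A) l.2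
  have hsum : ∀ l : CA.NP A, ∑ φ ∈ T, (K φ l.1 : ℂ) = ∑ φ ∈ T, (K φ l₀.1 : ℂ) := by
    intro l
    rw [← sub_eq_zero, ← Finset.sum_sub_distrib]
    simp only [← hK, hcoef]
    rw [← Finset.mul_sum, Finset.sum_sub_distrib, Finset.sum_ite_eq, Finset.sum_ite_eq,
      if_pos (Finset.mem_image_of_mem μ (Finset.mem_univ _)),
      if_pos (Finset.mem_image_of_mem μ (Finset.mem_univ _)), sub_self, mul_zero]
  set z : ℤ := (∑ φ ∈ T, K φ Char.principalIrr : ℕ) - (∑ φ ∈ T, K φ l₀.1 : ℕ) with hz
  have hTx : ∑ φ ∈ T, (φ : G → ℂ) x = (z : ℂ) := by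
    calc ∑ φ ∈ T, (φ : G → ℂ) x
        = ∑ φ ∈ T, ((K φ Char.principalIrr : ℂ) +
            ∑ l : CA.NP A, (K φ l.1 : ℂ) * (l.1 : A → ℂ) b) := by
          refine Finset.sum_congr rfl fun φ _ => ?_
          rw [show (φ : G → ℂ) x = (φ : G → ℂ) (b : G) from rfl, hexp]
          simp only [hK]
      _ = (∑ φ ∈ T, (K φ Char.principalIrr : ℂ)) +
            ∑ l : CA.NP A, (∑ φ ∈ T, (K φ l.1 : ℂ)) * (l.1 : A → ℂ) b := by
          rw [Finset.sum_add_distrib, Finset.sum_comm]
          simp only [Finset.sum_mul]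
      _ = _ := by
          simp only [hsum]
          rw [← Finset.mul_sum, CA.sum_np_apply hA hb1, hz]
          push_cast
          ring
  rw [← Finset.sum_subset (Finset.subset_univ (insert Char.principalIrr T)) ?_,
    Finset.sum_insert hTp, Char.principalIrr_apply, Char.principalIrr_apply, map_one, mul_one] at hcol
  · have h0 : ∑ φ ∈ T, (φ : G → ℂ) x * conj ((φ : G → ℂ) 1) = (z : ℂ) * (d : ℂ) := by
      rw [← hTx, Finset.sum_mul]
      exact Finset.sum_congr rfl fun φ hφ => by rw [hTdeg φ hφ, map_natCast]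
    rw [h0] at hcol
    have h1 : (1 : ℤ) + z * (d : ℤ) = 0 := by exact_mod_cast hcol
    have hd1 : (d : ℤ) ∣ 1 := ⟨-z, by linarith⟩
    have := hne1 (μ (CA.orb A l₀)) (hprin _)
    exact this.ne_one (Nat.dvd_one.1 (by exact_mod_cast hd1))
  · intro φ _ hφ
    rw [Finset.mem_insert, not_or] at hφ
    rw [hvan φ hφ.1 fun o ho => hφ.2 (ho ▸ Finset.mem_image_of_mem μ (Finset.mem_univ o)), zero_mul]

omit [Finite G] in
/-- Solvability. -/
theorem isSolvable_of_prime_degrees : ∀ (n : ℕ) (G : Type u) [Group G] [Finite G],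
    Nat.card G = n → (∀ χ : IrrCharacter G, charDegree (χ : G → ℂ) ≠ 1 →
      (charDegree (χ : G → ℂ)).Prime) → Group.IsSolvable G := by
  intro n
  induction n using Nat.strong_induction_on with
  | _ n ih =>
  intro G _ _ hn h
  rcases subsingleton_or_nontrivial G with hs | hs
  · infer_instance
  haveI := hs
  by_cases hsimple : IsSimpleGroup G
  · haveI := hsimple
    rcases (inferInstance : (Subgroup.center G).Normal).eq_bot_or_eq_top with hz | hz
    · exact (false_of_simple hz h).elim
    · exact Group.isSolvable_of_comm fun a b =>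
        Subgroup.mem_center_iff.1 (hz ▸ Subgroup.mem_top b) a
  obtain ⟨N, hN, hb, ht⟩ : ∃ N : Subgroup G, N.Normal ∧ N ≠ ⊥ ∧ N ≠ ⊤ := by
    by_contra hc
    push Not at hc
    exact hsimple ⟨fun N hN => or_iff_not_imp_left.2 (hc N hN)⟩
  haveI := hN
  haveI := Fintype.ofFinite N
  have hN1 : 1 < Nat.card N := by
    have h1 : Nat.card N ≠ 1 := fun h => hb (Subgroup.eq_bot_of_card_eq _ h)
    have := Nat.card_pos (α := N)
    omega
  have hidx : 1 < N.index := by
    have h1 : N.index ≠ 1 := fun h => ht (Subgroup.index_eq_one.1 h)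
    have h2 : N.index ≠ 0 := Subgroup.index_ne_zero_of_finite
    omega
  have hcard := Subgroup.card_mul_index N
  haveI h1 : Group.IsSolvable N := by
    refine ih (Nat.card N) ?_ N rfl fun θ hθ => ?_
    · rw [← hn, ← hcard]; exact lt_mul_right Nat.card_pos hidx
    obtain ⟨χ, hχ⟩ := Blk83.exists_over N θ
    have hdvd := (Dvd.intro _ rfl).trans (Blk83.dvd_of_constituent N χ θ hχ)
    by_cases hc1 : charDegree (χ : G → ℂ) = 1
    · rw [hc1, Nat.dvd_one] at hdvd
      exact absurd hdvd hθ
    · rcases (Nat.dvd_prime (h χ hc1)).1 hdvd with h2 | h2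
      · exact absurd h2 hθ
      · rw [h2]; exact h χ hc1
  haveI h2 : Group.IsSolvable (G ⧸ N) := by
    refine ih (Nat.card (G ⧸ N)) ?_ (G ⧸ N) rfl fun ψ hψ => ?_
    · show N.index < n
      rw [← hn, ← hcard]; exact lt_mul_left (Nat.pos_of_ne_zero (by omega)) hN1
    have := h ⟨_, CharTwist.isIrrCharacter_comp ψ.2 (QuotientGroup.mk' N)
      (QuotientGroup.mk'_surjective N)⟩
    simp only [charDegree, Function.comp_apply, map_one] at this
    exact this hψ
  exact Group.isSolvable_of_ker_le_range N.subtype (QuotientGroup.mk' N)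
    (by rw [QuotientGroup.ker_mk', Subgroup.range_subtype])

end CfsgLib.PrimeDeg
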